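import Mathlib.RingTheory.MvPolynomial.EulerIdentity
import Mathlib.Algebra.MvPolynomial.PDeriv
import Mathlib.Algebra.MvPolynomial.Funext

/-! Linear forms via their constant partial derivatives. -/

universe u
open MvPolynomial Finset

namespace Groth.Agent.LinFormH28

variable {R : Type u} [CommRing R] {n : ℕ}

/-- Coefficient vector. -/
noncomputable def cv (z : MvPolynomial (Fin n) R) (i : Fin n) : R := constantCoeff (pderiv i z)

theorem pderiv_eq {z : MvPolynomial (Fin n) R} (hz : z.IsHomogeneous 1) (i : Fin n) :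
    pderiv i z = C (cv z i) := by
  have h : (pderiv i z).IsHomogeneous 0 := by simpa using hz.pderiv (i := i)
  have hd : (pderiv i z).totalDegree = 0 := Nat.le_zero.1 h.totalDegree_le
  rw [totalDegree_eq_zero_iff_eq_C.1 hd]
  simp [cv, constantCoeff_eq]

theorem eq_sum {z : MvPolynomial (Fin n) R} (hz : z.IsHomogeneous 1) : z = ∑ i, C (cv z i) * X i := by
  conv_lhs => rw [← one_smul ℕ z, ← hz.sum_X_mul_pderiv]
  exact Finset.sum_congr rfl fun i _ => by rw [pderiv_eq hz, mul_comm]

theorem eval_eq {z : MvPolynomial (Fin n) R} (hz : z.IsHomogeneous 1) (p : Fin n → R) :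
    eval p z = ∑ i, cv z i * p i := by
  conv_lhs => rw [eq_sum hz]
  simp

end Groth.Agent.LinFormH28
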